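import Mathlib
import Cfsg.Agent.Lib.Golay.Code
import Cfsg.Agent.Lib.AbstractGolay.Basic

/-! Coset leaders of the length-24 code and its punctured code. -/

set_option autoImplicit false

namespace Cfsg.Agent.Lib.GolayPunct.Basic

open Cfsg
open Cfsg.Agent.Lib.Golay
open Cfsg.Agent.Lib.AbstractGolay.Basic

/-- the points numbered by `Fin 24` -/
def ptEquiv : GolayPt ≃ Fin 24 where
  toFun p := ⟨idx p, idx_lt p⟩
  invFun i := pt i
  left_inv := pt_idx
  right_inv i := Fin.ext (idx_pt i.2)

/-- transport of words to `Fin 24` -/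
noncomputable def toV : (GolayPt → ZMod 2) ≃ₗ[ZMod 2] V :=
  LinearEquiv.funCongrLeft (ZMod 2) (ZMod 2) ptEquiv.symm

theorem toV_apply (w : GolayPt → ZMod 2) (i : Fin 24) : toV w i = w (ptEquiv.symm i) := rfl

theorem norm_toV (w : GolayPt → ZMod 2) : hammingNorm (toV w) = hammingNorm w := by
  refine Finset.card_equiv ptEquiv.symm fun i => ?_
  erw [Finset.mem_filter, Finset.mem_filter]
  simp [toV_apply]

/-- the code on `Fin 24` -/
noncomputable def codeV : Submodule (ZMod 2) V := golayCode.map toV.toLinearMap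

theorem mem_codeV {w : GolayPt → ZMod 2} : toV w ∈ codeV ↔ w ∈ golayCode := by
  simp [codeV]

theorem codeV_isGolay : IsGolay codeV where
  dim := by
    rw [codeV, LinearEquiv.finrank_map_eq, finrank_golayCode]
  orth := by
    rintro v ⟨v', hv, rfl⟩ w ⟨w', hw, rfl⟩
    have h := self_orth hv hw
    rw [← h]
    exact ptEquiv.symm.sum_comp (fun p => v' p * w' p)
  minWt := by
    rintro v ⟨v', hv, rfl⟩ hne
    change 8 ≤ hammingNorm (toV v')
    rw [norm_toV]
    have h0 : hammingNorm v' ≠ 0 := by
      rw [Ne, hammingNorm_eq_zero]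
      rintro rfl
      exact hne (map_zero _)
    have := weight_mem hv
    omega

theorem cls_supp_eq {w v : GolayPt → ZMod 2} :
    cls codeV (supp (toV v)) = (Submodule.Quotient.mk (toV w) : V ⧸ codeV) ↔ w - v ∈ golayCode := by
  rw [cls, ind_supp, eq_comm, Submodule.Quotient.eq, ← map_sub, mem_codeV]

/-- The two kinds of cosets. -/
theorem coset_leaders (w : GolayPt → ZMod 2) :
    (∃ v : GolayPt → ZMod 2, hammingNorm v ≤ 3 ∧ w - v ∈ golayCode ∧
      ∀ u : GolayPt → ZMod 2, hammingNorm u ≤ 4 → w - u ∈ golayCode → u = v) ∨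
    ({v : GolayPt → ZMod 2 | hammingNorm v ≤ 4 ∧ w - v ∈ golayCode}.ncard = 6 ∧
      (∀ v : GolayPt → ZMod 2, w - v ∈ golayCode → hammingNorm v ≤ 4 → hammingNorm v = 4) ∧
      ∀ p, ∃ v : GolayPt → ZMod 2, w - v ∈ golayCode ∧ hammingNorm v = 4 ∧ v p = 1) := by
  classical
  let G : Finset (Fin 24) → GolayPt → ZMod 2 := fun s => toV.symm (ind s)
  have hG : ∀ s, supp (toV (G s)) = s := fun s => by
    simp [G, supp_ind]
  have hG' : ∀ v, G (supp (toV v)) = v := fun v => by simp [G, ind_supp]
  have hn : ∀ v, hammingNorm v = (supp (toV v)).card := fun v => by rw [← norm_toV]; rfl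
  rcases codeV_isGolay.coset_dichotomy (Submodule.Quotient.mk (toV w)) with
    ⟨s, hs, hcls, huniq⟩ | ⟨hfour, hsix, hdisj⟩
  · left
    refine ⟨G s, ?_, ?_, fun u hu hu' => ?_⟩
    · rwa [hn, hG]
    · rwa [← cls_supp_eq, hG]
    · rw [hn] at hu
      rw [← huniq _ hu (cls_supp_eq.2 hu'), hG']
  · right
    let T := (Finset.powersetCard 4 (Finset.univ : Finset (Fin 24))).filter fun t =>
      cls codeV t = Submodule.Quotient.mk (toV w)
    have hT : ∀ t ∈ T, t.card = 4 ∧ cls codeV t = Submodule.Quotient.mk (toV w) := fun t ht =>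
      ⟨(Finset.mem_powersetCard.1 (Finset.mem_filter.1 ht).1).2, (Finset.mem_filter.1 ht).2⟩
    have hTcard : T.card = 6 := by convert hsix
    refine ⟨?_, fun v hv hv4 => ?_, fun p => ?_⟩
    · have hset : {v : GolayPt → ZMod 2 | hammingNorm v ≤ 4 ∧ w - v ∈ golayCode} = G '' ↑T := by
        ext v
        simp only [Set.mem_ofPred_eq, Set.mem_image, Finset.mem_coe]
        constructor
        · rintro ⟨h4, hv⟩
          rw [hn] at h4
          refine ⟨_, ?_, hG' v⟩
          simp only [T, Finset.mem_filter, Finset.mem_powersetCard]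
          exact ⟨⟨Finset.subset_univ _, hfour _ h4 (cls_supp_eq.2 hv)⟩, cls_supp_eq.2 hv⟩
        · rintro ⟨t, ht, rfl⟩
          refine ⟨?_, ?_⟩
          · rw [hn, hG]; exact (hT t ht).1.le
          · rw [← cls_supp_eq, hG]; exact (hT t ht).2
      rw [hset, Set.ncard_image_of_injective _ (Function.LeftInverse.injective
        (g := fun v => supp (toV v)) hG), Set.ncard_coe_finset, hTcard]
    · rw [hn] at hv4 ⊢
      exact hfour _ hv4 (cls_supp_eq.2 hv)
    · have hd : (T : Set (Finset (Fin 24))).PairwiseDisjoint id := fun s hs t ht hne =>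
        hdisj s t (hT s hs).1 (hT t ht).1 (hT s hs).2 (hT t ht).2 hne
      have hU : T.biUnion id = Finset.univ := by
        refine Finset.eq_univ_of_card _ ?_
        rw [Finset.card_biUnion hd, Finset.sum_congr rfl fun t ht =>
          (show (id t).card = 4 from (hT t ht).1), Finset.sum_const, hTcard, Fintype.card_fin]
        rfl
      obtain ⟨t, ht, hpt⟩ := Finset.mem_biUnion.1 (hU ▸ Finset.mem_univ (ptEquiv p))
      refine ⟨G t, ?_, ?_, ?_⟩
      · rw [← cls_supp_eq, hG]; exact (hT t ht).2
      · rw [hn, hG]; exact (hT t ht).1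
      · have : toV (G t) (ptEquiv p) = 1 := by
          simp only [G, LinearEquiv.apply_symm_apply]
          simpa [ind] using hpt
        simpa [toV_apply] using this

theorem eq_of_close {c c' : GolayPt → ZMod 2} (hc : c ∈ golayCode) (hc' : c' ∈ golayCode)
    (h : hammingNorm (c - c') < 8) : c = c' := by
  have := weight_mem (sub_mem hc hc')
  have h0 : hammingNorm (c - c') = 0 := by omega
  exact sub_eq_zero.1 (hammingNorm_eq_zero.1 h0)

theorem hammingNorm_option {α : Type*} [Fintype α] [DecidableEq α] (w : Option α → ZMod 2) :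
    hammingNorm w = hammingNorm (fun x => w (some x)) + (if w none = 0 then 0 else 1) := by
  rw [hammingNorm, hammingNorm, Finset.card_filter, Fintype.sum_option, ← Finset.card_filter]
  split_ifs <;> simp_all <;> omega

end Cfsg.Agent.Lib.GolayPunct.Basic
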